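import Groth.Agent.Misc1.P1Pow.Projection
/-! # The multiplication `P^n × P^1 ⟶ P^(n+1)` of binary forms: it is affine -/

universe u

open CategoryTheory CategoryTheory.Limits AlgebraicGeometry

namespace Groth.Chow

noncomputable section

/-- coefficients of the product of the binary form `a` and the linear form `b` -/
def mc {R : Type*} [CommRing R] {n : ℕ} (a : Fin (n + 1) → R) (b : Fin 2 → R) : Fin (n + 2) → R :=
  fun l => (Fin.snoc a 0 : Fin (n + 2) → R) l * b 1 + (Fin.cons 0 a : Fin (n + 2) → R) l * b 0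

theorem map_mc {R S : Type*} [CommRing R] [CommRing S] {n : ℕ} (f : R →+* S) (a : Fin (n + 1) → R)
    (b : Fin 2 → R) (l : Fin (n + 2)) : f (mc a b l) = mc (f ∘ a) (f ∘ b) l := by
  have h1 : f ((Fin.snoc a 0 : Fin (n + 2) → R) l) = (Fin.snoc (f ∘ a) 0 : Fin (n + 2) → S) l := by
    refine Fin.lastCases ?_ (fun j => ?_) l <;> simp
  have h2 : f ((Fin.cons 0 a : Fin (n + 2) → R) l) = (Fin.cons 0 (f ∘ a) : Fin (n + 2) → S) l := by
    refine Fin.cases ?_ (fun j => ?_) l <;> simp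
  simp [mc, h1, h2]

theorem mc_smul {R : Type*} [CommRing R] {n : ℕ} (s t : R) (a : Fin (n + 1) → R) (b : Fin 2 → R)
    (l : Fin (n + 2)) : mc (fun x => s * a x) (fun x => t * b x) l = s * t * mc a b l := by
  have h1 : (Fin.snoc (fun x => s * a x) 0 : Fin (n + 2) → R) l = s * (Fin.snoc a 0 : Fin (n + 2) → R) l := by
    refine Fin.lastCases ?_ (fun j => ?_) l <;> simp
  have h2 : (Fin.cons 0 (fun x => s * a x) : Fin (n + 2) → R) l = s * (Fin.cons 0 a : Fin (n + 2) → R) l := by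
    refine Fin.cases ?_ (fun j => ?_) l <;> simp
  simp only [mc, h1, h2]
  ring

theorem exists_mc_ne_zero {K : Type*} [CommRing K] [IsDomain K] {n : ℕ} (a : Fin (n + 1) → K) (b : Fin 2 → K)
    (ha : ∃ i, a i ≠ 0) (hb : ∃ j, b j ≠ 0) : ∃ l, mc a b l ≠ 0 := by
  by_contra hcon
  push Not at hcon
  obtain ⟨i, hi⟩ := ha
  by_cases h1 : b 1 = 0
  · have h0 : b 0 ≠ 0 := by
      obtain ⟨j, hj⟩ := hb
      fin_cases j
      · exact hj
      · exact absurd h1 hj
    have h := hcon i.succ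
    simp [mc, h1] at h
    exact h.elim hi h0
  · have hz : ∀ x : Fin (n + 1), a x = 0 := by
      intro x
      induction x using Fin.induction with
      | zero =>
        have h := hcon (Fin.castSucc 0)
        simp [mc] at h
        exact h.resolve_right h1
      | succ y ih =>
        have h := hcon (Fin.castSucc y.succ)
        rw [mc, Fin.snoc_castSucc, ← Fin.succ_castSucc, Fin.cons_succ, ih, zero_mul, add_zero] at h
        exact (mul_eq_zero.mp h).resolve_right h1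
    exact hi (hz i)

abbrev NN (n : ℕ) : ℕ := 3 * n + 3

/-- indices: products `a_l b_t` and coefficients of the product -/
def idx (n : ℕ) : (Fin (n + 1) × Fin 2) ⊕ Fin (n + 2) ≃ Fin (NN n + 1) :=
  Fintype.equivFinOfCardEq (by simp [NN]; ring)

variable {n : ℕ} {W : Scheme.{u}}

/-- the augmented Segre coordinates -/
def tup {R : Type*} [CommRing R] (a : Fin (n + 1) → R) (b : Fin 2 → R) : (Fin (n + 1) × Fin 2) ⊕ Fin (n + 2) → R :=
  Sum.elim (fun x => a x.1 * b x.2) (mc a b)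

theorem tup_smul {R : Type*} [CommRing R] (s t : R) (a : Fin (n + 1) → R) (b : Fin 2 → R)
    (z : (Fin (n + 1) × Fin 2) ⊕ Fin (n + 2)) :
    tup (fun x => s * a x) (fun x => t * b x) z = s * t * tup a b z := by
  rcases z with x | l
  · simp [tup]; ring
  · simp [tup, mc_smul]

theorem map_tup {R S : Type*} [CommRing R] [CommRing S] (f : R →+* S) (a : Fin (n + 1) → R) (b : Fin 2 → R)
    (z : (Fin (n + 1) × Fin 2) ⊕ Fin (n + 2)) : f (tup a b z) = tup (f ∘ a) (f ∘ b) z := by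
  rcases z with x | l
  · simp [tup]
  · simp [tup, map_mc]

theorem exists_aug {i : Fin (n + 1)} {j : Fin 2} {R : Type u} [CommRing R] (α : A.{u} n i →+* R)
    (β : A.{u} 1 j →+* R) : ∃ f : A.{u} (NN n) (idx n (.inl (i, j))) →+* R,
      ∀ z, f (q (idx n (.inl (i, j))) (idx n z)) = tup (α ∘ q i) (β ∘ q j) z := by
  obtain ⟨f, hf⟩ := exists_ringHom.{u} (idx n (.inl (i, j)))
    (fun k => tup (α ∘ q i) (β ∘ q j) ((idx n).symm k)) (by simp [tup, q_self])
  exact ⟨f, fun z => by rw [hf, Equiv.symm_apply_apply]⟩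

def aug {i : Fin (n + 1)} {j : Fin 2} {R : Type u} [CommRing R] (α : A.{u} n i →+* R)
    (β : A.{u} 1 j →+* R) : A.{u} (NN n) (idx n (.inl (i, j))) →+* R := (exists_aug α β).choose

theorem aug_q {i : Fin (n + 1)} {j : Fin 2} {R : Type u} [CommRing R] (α : A.{u} n i →+* R)
    (β : A.{u} 1 j →+* R) (z : (Fin (n + 1) × Fin 2) ⊕ Fin (n + 2)) :
    aug α β (q (idx n (.inl (i, j))) (idx n z)) = tup (α ∘ q i) (β ∘ q j) z :=
  (exists_aug α β).choose_spec z

theorem comp_aug {i : Fin (n + 1)} {j : Fin 2} {R R' : Type u} [CommRing R] [CommRing R']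
    (f : R →+* R') (α : A.{u} n i →+* R) (β : A.{u} 1 j →+* R) :
    f.comp (aug α β) = aug (f.comp α) (f.comp β) := by
  refine ringHom_ext fun k => ?_
  obtain ⟨z, rfl⟩ := (idx n).surjective k
  rw [RingHom.comp_apply, aug_q, aug_q, map_tup]
  rfl

theorem mor_aug_congr {i i' : Fin (n + 1)} {j j' : Fin 2}
    {α : A.{u} n i →+* Γ(W, ⊤)} {α' : A.{u} n i' →+* Γ(W, ⊤)}
    {β : A.{u} 1 j →+* Γ(W, ⊤)} {β' : A.{u} 1 j' →+* Γ(W, ⊤)}
    (hα : mor α = mor α') (hβ : mor β = mor β') : mor (aug α β) = mor (aug α' β') := by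
  rw [mor_eq_iff] at hα hβ ⊢
  intro k
  obtain ⟨z, rfl⟩ := (idx n).surjective k
  rw [aug_q, aug_q, aug_q]
  have ea : α ∘ q i = fun x => α (q i i') * (α' ∘ q i') x :=
    funext fun x => by rw [Function.comp_apply, Function.comp_apply, mul_comm, hα x]
  have eb : β ∘ q j = fun x => β (q j j') * (β' ∘ q j') x :=
    funext fun x => by rw [Function.comp_apply, Function.comp_apply, mul_comm, hβ x]
  rw [ea, eb, tup_smul, tup_smul]
  simp [tup, q_self]
  ring

theorem mor_aug_inj {i i' : Fin (n + 1)} {j j' : Fin 2}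
    {α : A.{u} n i →+* Γ(W, ⊤)} {α' : A.{u} n i' →+* Γ(W, ⊤)}
    {β : A.{u} 1 j →+* Γ(W, ⊤)} {β' : A.{u} 1 j' →+* Γ(W, ⊤)}
    (h : mor (aug α β) = mor (aug α' β')) : mor α = mor α' ∧ mor β = mor β' := by
  refine mor_seg_inj (n := n) (m := 1) ?_
  rw [mor_eq_iff] at h ⊢
  intro k
  obtain ⟨⟨l, t⟩, rfl⟩ := (pairIdx n 1).surjective k
  have := h (idx n (.inl (l, t)))
  rw [aug_q, aug_q, aug_q] at this
  rw [seg_q, seg_q, seg_q]
  exact this

variable (n)

abbrev TT : Scheme.{u} := pullback (CohB1.ProjSpace.toSpec n Z.{u}) (CohB1.ProjSpace.toSpec 1 Z.{u})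

variable {n}

def augChart (i : Fin (n + 1)) (j : Fin 2) : segSrc.{u} i j ⟶ CohB1.ProjSpace (NN n) Z.{u} :=
  mor (aug (homOf (R := CommRingCat.of (A.{u} n i)) (pullback.fst _ _))
    (homOf (R := CommRingCat.of (A.{u} 1 j)) (pullback.snd _ _)))

theorem comp_augChart {i : Fin (n + 1)} {j : Fin 2} (h : W ⟶ segSrc.{u} i j) :
    h ≫ augChart i j = mor (aug (homOf (R := CommRingCat.of (A.{u} n i)) (h ≫ pullback.fst _ _))
      (homOf (R := CommRingCat.of (A.{u} 1 j)) (h ≫ pullback.snd _ _))) := by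
  rw [augChart, comp_mor, comp_aug, homOf_comp, homOf_comp]

theorem augChart_compat (x y : Fin (n + 1) × Fin 2) :
    pullback.fst (segF.{u} x.1 x.2) (segF.{u} y.1 y.2) ≫ augChart x.1 x.2 =
      pullback.snd (segF.{u} x.1 x.2) (segF.{u} y.1 y.2) ≫ augChart y.1 y.2 := by
  have c := pullback.condition (f := segF.{u} x.1 x.2) (g := segF.{u} y.1 y.2)
  rw [comp_augChart, comp_augChart]
  refine mor_aug_congr ?_ ?_
  · rw [mor_homOf, mor_homOf, Category.assoc, Category.assoc, ← segF_fst, ← segF_fst,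
      ← Category.assoc, c, Category.assoc]
  · rw [mor_homOf, mor_homOf, Category.assoc, Category.assoc, ← segF_snd, ← segF_snd,
      ← Category.assoc, c, Category.assoc]

variable (n) in
/-- the augmented Segre embedding -/
def augMor : TT.{u} n ⟶ CohB1.ProjSpace (NN n) Z.{u} :=
  (segCover.{u} n 1).glueMorphisms (fun x => augChart x.1 x.2) augChart_compat

theorem segF_augMor (i : Fin (n + 1)) (j : Fin 2) : segF.{u} i j ≫ augMor n = augChart i j :=
  (segCover.{u} n 1).ι_glueMorphisms _ augChart_compat (i, j)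

instance mono_augMor : Mono (augMor.{u} n) := by
  refine ⟨fun {V} g g' hg => Scheme.hom_ext_of_forall _ _ fun v => ?_⟩
  obtain ⟨(x : Fin (n + 1) × Fin 2), y, hy⟩ := (segCover.{u} n 1).exists_eq (g.base v)
  obtain ⟨(x' : Fin (n + 1) × Fin 2), y', hy'⟩ := (segCover.{u} n 1).exists_eq (g'.base v)
  let U : V.Opens := g ⁻¹ᵁ (segF.{u} x.1 x.2).opensRange ⊓ g' ⁻¹ᵁ (segF.{u} x'.1 x'.2).opensRange
  refine ⟨U, ⟨⟨y, hy⟩, ⟨y', hy'⟩⟩, ?_⟩
  let k := IsOpenImmersion.lift (segF.{u} x.1 x.2) (U.ι ≫ g) (by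
    rintro _ ⟨w, rfl⟩; exact w.2.1)
  let k' := IsOpenImmersion.lift (segF.{u} x'.1 x'.2) (U.ι ≫ g') (by
    rintro _ ⟨w, rfl⟩; exact w.2.2)
  have hk : k ≫ segF x.1 x.2 = U.ι ≫ g := IsOpenImmersion.lift_fac _ _ _
  have hk' : k' ≫ segF x'.1 x'.2 = U.ι ≫ g' := IsOpenImmersion.lift_fac _ _ _
  have he : k ≫ augChart x.1 x.2 = k' ≫ augChart x'.1 x'.2 := by
    rw [← segF_augMor, ← segF_augMor, ← Category.assoc, ← Category.assoc, hk, hk', Category.assoc,
      Category.assoc, hg]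
  rw [comp_augChart, comp_augChart] at he
  obtain ⟨h1, h2⟩ := mor_aug_inj he
  rw [mor_homOf, mor_homOf] at h1 h2
  rw [← hk, ← hk']
  apply pullback.hom_ext
  · simpa only [Category.assoc, segF_fst] using h1
  · simpa only [Category.assoc, segF_snd] using h2

instance isClosedImmersion_augMor : IsClosedImmersion (augMor.{u} n) := by
  have := Groth.Variety2.isProper_projSpace_toSpec n Z.{u}
  have := Groth.Variety2.isProper_projSpace_toSpec 1 Z.{u}
  have := Groth.Variety2.isProper_projSpace_toSpec (NN n) Z.{u}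
  have : IsProper (augMor.{u} n ≫ CohB1.ProjSpace.toSpec (NN n) Z.{u}) := by
    rw [specULiftZIsTerminal.hom_ext (augMor.{u} n ≫ CohB1.ProjSpace.toSpec (NN n) Z.{u})
      (pullback.fst _ _ ≫ CohB1.ProjSpace.toSpec n Z.{u})]
    infer_instance
  have : IsProper (augMor.{u} n) := IsProper.of_comp _ (CohB1.ProjSpace.toSpec (NN n) Z.{u})
  exact (IsClosedImmersion.iff_isProper_and_mono _).mpr ⟨inferInstance, inferInstance⟩

theorem augMor_cov (z : TT.{u} n) :
    ∃ k : Fin (n + 2), (augMor.{u} n).base z ∈ (qι.{u} (idx n (.inr k))).opensRange := by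
  obtain ⟨(x : Fin (n + 1) × Fin 2), y, hy⟩ := (segCover.{u} n 1).exists_eq z
  let S := segSrc.{u} x.1 x.2
  let α := homOf (R := CommRingCat.of (A.{u} n x.1)) (pullback.fst _ _ : S ⟶ _)
  let β := homOf (R := CommRingCat.of (A.{u} 1 x.2)) (pullback.snd _ _ : S ⟶ _)
  let ev : Γ(S, ⊤) →+* S.residueField y := (S.evaluation ⊤ y trivial).hom
  obtain ⟨k, hk⟩ := exists_mc_ne_zero (ev ∘ α ∘ q x.1) (ev ∘ β ∘ q x.2) ⟨x.1, by simp [q_self]⟩
    ⟨x.2, by simp [q_self]⟩
  refine ⟨k, ?_⟩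
  have h1 : y ∈ S.basicOpen (aug α β (q (idx n (.inl x)) (idx n (.inr k)))) := by
    rw [aug_q]
    refine (S.evaluation_ne_zero_iff_mem_basicOpen (U := ⊤) y trivial _).mp fun h0 => hk ?_
    change ev (mc (α ∘ q x.1) (β ∘ q x.2) k) = 0 at h0
    rwa [map_mc] at h0
  rw [← mor_preimage] at h1
  rw [← hy]
  change (segF.{u} x.1 x.2 ≫ augMor n) y ∈ (qι.{u} (idx n (.inr k))).opensRange
  rw [segF_augMor]
  exact h1

variable (n) in
/-- `P^n × P^1 ⟶ P^(n+1)`, multiplication of binary forms -/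
def mulMor : TT.{u} n ⟶ CohB1.ProjSpace (n + 1) Z.{u} :=
  projMor (m := n + 1) (augMor.{u} n) (fun k : Fin (n + 2) => idx n (.inr k)) augMor_cov

instance isAffineHom_mulMor : IsAffineHom (mulMor.{u} n) := isAffineHom_projMor _ _ _

instance isFinite_mulMor : IsFinite (mulMor.{u} n) := by
  have := Groth.Variety2.isProper_projSpace_toSpec n Z.{u}
  have := Groth.Variety2.isProper_projSpace_toSpec 1 Z.{u}
  have := Groth.Variety2.isProper_projSpace_toSpec (n + 1) Z.{u}
  have : IsProper (mulMor.{u} n ≫ CohB1.ProjSpace.toSpec (n + 1) Z.{u}) := by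
    rw [specULiftZIsTerminal.hom_ext (mulMor.{u} n ≫ CohB1.ProjSpace.toSpec (n + 1) Z.{u})
      (pullback.fst _ _ ≫ CohB1.ProjSpace.toSpec n Z.{u})]
    infer_instance
  have : IsProper (mulMor.{u} n) := IsProper.of_comp _ (CohB1.ProjSpace.toSpec (n + 1) Z.{u})
  exact IsFinite.iff_isProper_and_isAffineHom.mpr ⟨inferInstance, inferInstance⟩

end

end Groth.Chow
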