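import Groth.Agent.Misc1.P1Pow.Surj
import Groth.Agent.Variety2.ProjBasics
/-! # Finite surjective maps `(P^1_S)^n ⟶ P^n_S` -/

universe u

open CategoryTheory CategoryTheory.Limits AlgebraicGeometry

namespace Groth.Chow

noncomputable section

open CohB1 in
theorem exists_finite_surjective_step (S : Scheme.{u}) (n : ℕ) :
    ∃ φ : pullback (ProjSpaceOver.toBase n S) (ProjSpaceOver.toBase 1 S) ⟶ ProjSpaceOver (n + 1) S,
      IsFinite φ ∧ Surjective φ ∧ φ ≫ ProjSpaceOver.toBase (n + 1) S =
        pullback.fst (ProjSpaceOver.toBase n S) (ProjSpaceOver.toBase 1 S) ≫ ProjSpaceOver.toBase n S := by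
  let p₁ := pullback.fst (ProjSpaceOver.toBase n S) (ProjSpaceOver.toBase 1 S)
  let p₂ := pullback.snd (ProjSpaceOver.toBase n S) (ProjSpaceOver.toBase 1 S)
  let a : ProjSpaceOver n S ⟶ ProjSpace n Z.{u} := pullback.fst _ _
  let b : ProjSpaceOver 1 S ⟶ ProjSpace 1 Z.{u} := pullback.fst _ _
  let w : pullback (ProjSpaceOver.toBase n S) (ProjSpaceOver.toBase 1 S) ⟶ TT.{u} n :=
    pullback.lift (p₁ ≫ a) (p₂ ≫ b) (specULiftZIsTerminal.hom_ext _ _)
  let φ : pullback (ProjSpaceOver.toBase n S) (ProjSpaceOver.toBase 1 S) ⟶ ProjSpaceOver (n + 1) S :=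
    pullback.lift (w ≫ mulMor n) (p₁ ≫ ProjSpaceOver.toBase n S) (specULiftZIsTerminal.hom_ext _ _)
  have hb : φ ≫ ProjSpaceOver.toBase (n + 1) S = p₁ ≫ ProjSpaceOver.toBase n S := pullback.lift_snd _ _ _
  have hf : φ ≫ pullback.fst _ _ = w ≫ mulMor n := pullback.lift_fst _ _ _
  -- `P^n_S × P^1_S` is the base change of `P^n × P^1` along `S`
  have h1 : IsPullback (p₂ ≫ b) p₁ (ProjSpace.toSpec 1 Z.{u})
      (ProjSpaceOver.toBase n S ≫ specULiftZIsTerminal.from S) :=
    (IsPullback.of_hasPullback (ProjSpaceOver.toBase n S) (ProjSpaceOver.toBase 1 S)).flip.paste_horiz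
      (IsPullback.of_hasPullback (ProjSpace.toSpec 1 Z.{u}) (specULiftZIsTerminal.from S))
  have h2 : IsPullback w p₁ (pullback.fst (ProjSpace.toSpec n Z.{u}) (ProjSpace.toSpec 1 Z.{u})) a := by
    refine IsPullback.of_right (h₁₂ := pullback.snd (ProjSpace.toSpec n Z.{u}) (ProjSpace.toSpec 1 Z.{u}))
      (v₁₃ := ProjSpace.toSpec 1 Z.{u}) (h₂₂ := ProjSpace.toSpec n Z.{u}) ?_ (pullback.lift_fst _ _ _)
      (IsPullback.of_hasPullback _ _).flip
    rw [show w ≫ pullback.snd _ _ = p₂ ≫ b from pullback.lift_snd _ _ _,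
      specULiftZIsTerminal.hom_ext (a ≫ ProjSpace.toSpec n Z.{u})
        (ProjSpaceOver.toBase n S ≫ specULiftZIsTerminal.from S)]
    exact h1
  have h3 : IsPullback w (p₁ ≫ ProjSpaceOver.toBase n S)
      (pullback.fst (ProjSpace.toSpec n Z.{u}) (ProjSpace.toSpec 1 Z.{u}) ≫ ProjSpace.toSpec n Z.{u})
      (specULiftZIsTerminal.from S) :=
    h2.paste_vert (IsPullback.of_hasPullback (ProjSpace.toSpec n Z.{u}) (specULiftZIsTerminal.from S))
  have h4 : IsPullback w φ (mulMor n) (pullback.fst _ _) := by
    refine IsPullback.of_bot ?_ hf.symm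
      (IsPullback.of_hasPullback (ProjSpace.toSpec (n + 1) Z.{u}) (specULiftZIsTerminal.from S))
    change IsPullback w (φ ≫ ProjSpaceOver.toBase (n + 1) S) _ _
    rw [hb, specULiftZIsTerminal.hom_ext (mulMor n ≫ ProjSpace.toSpec (n + 1) Z.{u})
      (pullback.fst (ProjSpace.toSpec n Z.{u}) (ProjSpace.toSpec 1 Z.{u}) ≫ ProjSpace.toSpec n Z.{u})]
    exact h3
  exact ⟨φ, MorphismProperty.of_isPullback h4 (isFinite_mulMor (n := n)),
    MorphismProperty.of_isPullback h4 (surjective_mulMor n), hb⟩

open CohB1 in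
theorem exists_finite_surjective_pow (S : Scheme.{u}) (n : ℕ) :
    ∃ φ : widePullback S (fun _ : Fin n => ProjSpaceOver 1 S) (fun _ => ProjSpaceOver.toBase 1 S) ⟶
        ProjSpaceOver n S,
      IsFinite φ ∧ Surjective φ ∧
        φ ≫ ProjSpaceOver.toBase n S = WidePullback.base (fun _ => ProjSpaceOver.toBase 1 S) := by
  induction n with
  | zero =>
    have := isIso_toSpec_zero.{u}
    have hiso : IsIso (ProjSpaceOver.toBase 0 S) := inferInstanceAs (IsIso (pullback.snd _ _))
    let B := WidePullback.base (fun _ : Fin 0 => ProjSpaceOver.toBase 1 S)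
    have : IsIso B := by
      refine ⟨⟨WidePullback.lift (𝟙 S) (fun j => j.elim0) (fun j => j.elim0), ?_, ?_⟩⟩
      · refine WidePullback.hom_ext _ _ _ (fun j => j.elim0) ?_
        rw [Category.assoc, WidePullback.lift_base, Category.comp_id, Category.id_comp]
      · rw [WidePullback.lift_base]
    exact ⟨B ≫ inv (ProjSpaceOver.toBase 0 S), inferInstance, inferInstance, by
      rw [Category.assoc, IsIso.inv_hom_id, Category.comp_id]⟩
  | succ n ih =>
    obtain ⟨φ, hφf, hφs, hφb⟩ := ih
    obtain ⟨ψ, hψf, hψs, hψb⟩ := exists_finite_surjective_step S n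
    let B := WidePullback.base (fun _ : Fin (n + 1) => ProjSpaceOver.toBase 1 S)
    let π := fun j => WidePullback.π (fun _ : Fin (n + 1) => ProjSpaceOver.toBase 1 S) j
    let r := WidePullback.lift (arrows := fun _ : Fin n => ProjSpaceOver.toBase 1 S) B
      (fun j => π j.castSucc) (fun j => WidePullback.π_arrow _ _)
    let bn := WidePullback.base (fun _ : Fin n => ProjSpaceOver.toBase 1 S)
    have hrb : r ≫ bn = B := WidePullback.lift_base _ _ _ _
    let q : widePullback S (fun _ : Fin (n + 1) => ProjSpaceOver 1 S) (fun _ => ProjSpaceOver.toBase 1 S) ⟶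
        pullback bn (ProjSpaceOver.toBase 1 S) :=
      pullback.lift r (π (Fin.last n)) (hrb.trans (WidePullback.π_arrow _ _).symm)
    let q' : pullback bn (ProjSpaceOver.toBase 1 S) ⟶
        widePullback S (fun _ : Fin (n + 1) => ProjSpaceOver 1 S) (fun _ => ProjSpaceOver.toBase 1 S) :=
      WidePullback.lift (pullback.fst _ _ ≫ bn)
        (fun j => Fin.lastCases (pullback.snd _ _) (fun i => pullback.fst _ _ ≫ WidePullback.π _ i) j)
        (fun j => by
          refine Fin.lastCases ?_ (fun i => ?_) j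
          · rw [Fin.lastCases_last]; exact pullback.condition.symm
          · rw [Fin.lastCases_castSucc, Category.assoc, WidePullback.π_arrow])
    have hq : IsIso q := by
      refine ⟨⟨q', ?_, ?_⟩⟩
      · refine WidePullback.hom_ext _ _ _ (fun j => ?_) ?_
        · rw [Category.assoc, WidePullback.lift_π, Category.id_comp]
          refine Fin.lastCases ?_ (fun i => ?_) j
          · rw [Fin.lastCases_last]; exact pullback.lift_snd _ _ _
          · rw [Fin.lastCases_castSucc, ← Category.assoc, pullback.lift_fst, WidePullback.lift_π]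
        · rw [Category.assoc, WidePullback.lift_base, Category.id_comp, ← Category.assoc, pullback.lift_fst,
            hrb]
      · apply pullback.hom_ext
        · rw [Category.assoc, pullback.lift_fst, Category.id_comp]
          refine WidePullback.hom_ext _ _ _ (fun i => ?_) ?_
          · rw [Category.assoc, WidePullback.lift_π, WidePullback.lift_π, Fin.lastCases_castSucc]
          · rw [Category.assoc, hrb, WidePullback.lift_base]
        · rw [Category.assoc, pullback.lift_snd, Category.id_comp, WidePullback.lift_π, Fin.lastCases_last]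
    let m : pullback bn (ProjSpaceOver.toBase 1 S) ⟶
        pullback (ProjSpaceOver.toBase n S) (ProjSpaceOver.toBase 1 S) :=
      pullback.lift (pullback.fst _ _ ≫ φ) (pullback.snd _ _) (by
        rw [Category.assoc, hφb]; exact pullback.condition)
    have hm : IsPullback (pullback.fst bn (ProjSpaceOver.toBase 1 S)) m φ
        (pullback.fst (ProjSpaceOver.toBase n S) (ProjSpaceOver.toBase 1 S)) := by
      refine IsPullback.flip ?_
      refine IsPullback.of_right (h₁₂ := pullback.snd (ProjSpaceOver.toBase n S) (ProjSpaceOver.toBase 1 S))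
        (v₁₃ := ProjSpaceOver.toBase 1 S) (h₂₂ := ProjSpaceOver.toBase n S) ?_ (pullback.lift_fst _ _ _)
        (IsPullback.of_hasPullback _ _).flip
      rw [show m ≫ pullback.snd _ _ = pullback.snd _ _ from pullback.lift_snd _ _ _, hφb]
      exact (IsPullback.of_hasPullback bn (ProjSpaceOver.toBase 1 S)).flip
    have : IsFinite m := MorphismProperty.of_isPullback hm hφf
    have : Surjective m := MorphismProperty.of_isPullback hm hφs
    refine ⟨q ≫ m ≫ ψ, inferInstance, inferInstance, ?_⟩
    rw [Category.assoc, Category.assoc, hψb, pullback.lift_fst_assoc, Category.assoc, hφb,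
      pullback.lift_fst_assoc, hrb]

end

end Groth.Chow
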