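import Groth.Agent.Chow.Segre
/-! # Projection of a closed subscheme of `P^N` onto a subset of the coordinates

For a closed immersion `ψ : T ⟶ P^N` and `e : Fin (m+1) → Fin (N+1)` such that the coordinates `x_{e k}` have no
common zero on `T`, `projMor` is the affine morphism `T ⟶ P^m` with coordinates `x_{e k}`. -/

universe u

open CategoryTheory CategoryTheory.Limits AlgebraicGeometry

namespace Groth.Chow

noncomputable section

theorem preimage_qι {N : ℕ} (i k : Fin (N + 1)) :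
    qι.{u} i ⁻¹ᵁ (qι.{u} k).opensRange = PrimeSpectrum.basicOpen (q.{u} i k) := by
  have he : HomogeneousLocalization.Away.isLocalizationElem (X_mem.{u} i) (X_mem.{u} k) = q.{u} i k := by
    apply HomogeneousLocalization.val_injective
    simp [q]
  have h : (qι.{u} k).opensRange = Proj.basicOpen (pg.{u} N) (MvPolynomial.X k) :=
    Proj.opensRange_awayι (pg.{u} N) _ (X_mem k) one_pos
  rw [h, ← he]
  exact Proj.awayι_preimage_basicOpen (pg.{u} N) (X_mem i) one_pos (X_mem k) one_pos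

theorem mor_preimage {W : Scheme.{u}} {N : ℕ} {i : Fin (N + 1)} (α : A.{u} N i →+* Γ(W, ⊤))
    (k : Fin (N + 1)) : mor α ⁻¹ᵁ (qι.{u} k).opensRange = W.basicOpen (α (q i k)) := by
  rw [mor, Scheme.Hom.comp_preimage, Scheme.Hom.comp_preimage, preimage_qι]
  exact (congrArg (W.toSpecΓ ⁻¹ᵁ ·) (PrimeSpectrum.comap_basicOpen α (q i k))).trans
    (Scheme.toSpecΓ_preimage_basicOpen (X := W) (α (q i k)))

variable {T : Scheme.{u}} {N m : ℕ} (ψ : T ⟶ CohB1.ProjSpace N Z.{u}) (e : Fin (m + 1) → Fin (N + 1))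

/-- the ring map of coordinates `x_l/x_k ↦ x_{e l}/x_{e k}` -/
def coordMap (k : Fin (m + 1)) : A.{u} m k →+* A.{u} N (e k) :=
  (exists_ringHom k (fun l => q (e k) (e l)) (q_self _)).choose

theorem coordMap_q (k l : Fin (m + 1)) : coordMap.{u} e k (q k l) = q (e k) (e l) :=
  (exists_ringHom k (fun l => q.{u} (e k) (e l)) (q_self _)).choose_spec l

/-- where the coordinate `x_{e k}` is invertible -/
abbrev projOpen (k : Fin (m + 1)) : T.Opens := ψ ⁻¹ᵁ (qι.{u} (e k)).opensRange

def projChart (k : Fin (m + 1)) : (projOpen ψ e k).toScheme ⟶ Spec (CommRingCat.of (A.{u} N (e k))) :=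
  IsOpenImmersion.lift (qι (e k)) ((projOpen ψ e k).ι ≫ ψ) (by rintro _ ⟨w, rfl⟩; exact w.2)

theorem projChart_fac (k : Fin (m + 1)) : projChart ψ e k ≫ qι (e k) = (projOpen ψ e k).ι ≫ ψ :=
  IsOpenImmersion.lift_fac _ _ _

variable (hcov : ∀ x : T, ∃ k, ψ.base x ∈ (qι.{u} (e k)).opensRange)

def projCover : T.OpenCover where
  I₀ := Fin (m + 1)
  X k := (projOpen ψ e k).toScheme
  f k := (projOpen ψ e k).ι
  mem₀ := by
    rw [Scheme.presieve₀_mem_precoverage_iff]
    refine ⟨fun x => ?_, fun k => inferInstanceAs (IsOpenImmersion (projOpen ψ e k).ι)⟩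
    obtain ⟨k, hk⟩ := hcov x
    exact ⟨k, ⟨x, hk⟩, rfl⟩

def projPiece (k : Fin (m + 1)) : (projOpen ψ e k).toScheme ⟶ CohB1.ProjSpace m Z.{u} :=
  mor ((homOf (projChart ψ e k)).comp (coordMap e k))

theorem comp_projPiece {W : Scheme.{u}} {k : Fin (m + 1)} (h : W ⟶ (projOpen ψ e k).toScheme) :
    h ≫ projPiece ψ e k = mor ((homOf (h ≫ projChart ψ e k)).comp (coordMap e k)) := by
  rw [projPiece, comp_mor, homOf_comp, RingHom.comp_assoc]

theorem projPiece_compat (k k' : Fin (m + 1)) :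
    pullback.fst (projOpen ψ e k).ι (projOpen ψ e k').ι ≫ projPiece ψ e k =
      pullback.snd (projOpen ψ e k).ι (projOpen ψ e k').ι ≫ projPiece ψ e k' := by
  rw [comp_projPiece, comp_projPiece]
  have h : mor (homOf (pullback.fst (projOpen ψ e k).ι (projOpen ψ e k').ι ≫ projChart ψ e k)) =
      mor (homOf (pullback.snd (projOpen ψ e k).ι (projOpen ψ e k').ι ≫ projChart ψ e k')) := by
    rw [mor_homOf, mor_homOf, Category.assoc, Category.assoc, projChart_fac, projChart_fac,
      ← Category.assoc, pullback.condition, Category.assoc]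
  rw [mor_eq_iff] at h ⊢
  intro l
  simp only [RingHom.comp_apply, coordMap_q]
  exact h (e l)

/-- The projection. -/
def projMor : T ⟶ CohB1.ProjSpace m Z.{u} :=
  (projCover ψ e hcov).glueMorphisms (projPiece ψ e) (projPiece_compat ψ e)

theorem ι_projMor (k : Fin (m + 1)) : (projOpen ψ e k).ι ≫ projMor ψ e hcov = projPiece ψ e k :=
  (projCover ψ e hcov).ι_glueMorphisms _ (projPiece_compat ψ e) k

theorem comp_projMor {W : Scheme.{u}} (h : W ⟶ T) {k : Fin (m + 1)} (α : A.{u} N (e k) →+* Γ(W, ⊤))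
    (hα : h ≫ ψ = mor α) : h ≫ projMor ψ e hcov = mor (α.comp (coordMap e k)) := by
  have hr : Set.range h ⊆ Set.range (projOpen ψ e k).ι := by
    rw [Scheme.Opens.range_ι]
    rintro _ ⟨w, rfl⟩
    change (h ≫ ψ) w ∈ (qι.{u} (e k)).opensRange
    rw [hα, mor, Scheme.Hom.comp_apply, Scheme.Hom.comp_apply]
    exact ⟨_, rfl⟩
  let h' := IsOpenImmersion.lift (projOpen ψ e k).ι h hr
  have hh' : h' ≫ (projOpen ψ e k).ι = h := IsOpenImmersion.lift_fac _ _ _
  have hc : h' ≫ projChart ψ e k = W.toSpecΓ ≫ Spec.map (CommRingCat.ofHom α) := by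
    rw [← cancel_mono (qι (e k)), Category.assoc, projChart_fac, ← Category.assoc, hh', hα, mor,
      Category.assoc]
  conv_lhs => rw [← hh', Category.assoc, ι_projMor, comp_projPiece, hc, homOf_toSpecΓ]

theorem projMor_preimage (k : Fin (m + 1)) :
    projMor ψ e hcov ⁻¹ᵁ (qι.{u} k).opensRange = projOpen ψ e k := by
  ext x
  obtain ⟨k', hk'⟩ := hcov x
  let y : (projOpen ψ e k').toScheme := ⟨x, hk'⟩
  have h1 : projPiece ψ e k' ⁻¹ᵁ (qι.{u} k).opensRange =
      ((projOpen ψ e k').ι ≫ ψ) ⁻¹ᵁ (qι.{u} (e k)).opensRange := by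
    rw [← projChart_fac, ← mor_homOf, mor_preimage, projPiece, mor_preimage, RingHom.comp_apply,
      coordMap_q]
  rw [← ι_projMor ψ e hcov k', Scheme.Hom.comp_preimage, Scheme.Hom.comp_preimage] at h1
  have h2 := congrArg (fun U : (projOpen ψ e k').toScheme.Opens => y ∈ U) h1
  exact iff_of_eq h2

theorem isAffineHom_projMor [IsClosedImmersion ψ] : IsAffineHom (projMor ψ e hcov) := by
  refine isAffineHom_of_forall_exists_isAffineOpen _ fun x => ?_
  obtain ⟨k, y, hy⟩ := (cov.{u} m).openCover.exists_eq x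
  refine ⟨(qι.{u} k).opensRange, ⟨y, hy⟩, isAffineOpen_opensRange _, ?_⟩
  rw [projMor_preimage]
  exact (isAffineOpen_opensRange (qι.{u} (e k))).preimage ψ

end

end Groth.Chow
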