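import Groth.Agent.Misc1.P1Pow.Mult
/-! # `P^n × P^1 ⟶ P^(n+1)` is surjective; `P^0_ℤ` is a point -/

universe u

open CategoryTheory CategoryTheory.Limits AlgebraicGeometry
open scoped Polynomial

namespace Groth.Chow

noncomputable section

theorem exists_factor {K : Type*} [Field K] [IsAlgClosed K] {n : ℕ} (c : Fin (n + 2) → K)
    (hc : ∃ l, c l ≠ 0) :
    ∃ (a : Fin (n + 1) → K) (b : Fin 2 → K), (∃ i, a i ≠ 0) ∧ (∃ j, b j ≠ 0) ∧ ∀ l, mc a b l = c l := by
  suffices h : ∃ (a : Fin (n + 1) → K) (b : Fin 2 → K), (∃ j, b j ≠ 0) ∧ ∀ l, mc a b l = c l by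
    obtain ⟨a, b, hb, h⟩ := h
    refine ⟨a, b, ?_, hb, h⟩
    by_contra hcon
    push Not at hcon
    obtain ⟨l, hl⟩ := hc
    apply hl
    rw [← h l, show a = 0 from funext hcon]
    have := mc_smul (0 : K) 1 (fun _ : Fin (n + 1) => (0 : K)) b l
    simpa [Pi.zero_def] using this
  by_cases hlast : c (Fin.last (n + 1)) = 0
  · refine ⟨fun x => c x.castSucc, ![0, 1], ⟨1, by simp⟩, fun l => ?_⟩
    refine Fin.lastCases ?_ (fun j => ?_) l <;> simp [mc, hlast]
  · let P : K[X] := ∑ l : Fin (n + 2), Polynomial.C (c l) * Polynomial.X ^ (l : ℕ)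
    have hcoeff : ∀ l : Fin (n + 2), P.coeff l = c l := fun l => by
      simp [P, Polynomial.finsetSum_coeff, Polynomial.coeff_X_pow, Fin.val_inj]
    have hdeg : P.degree ≠ 0 := fun h => by
      have h' := hcoeff (Fin.last (n + 1))
      rw [Polynomial.eq_C_of_degree_eq_zero h, Fin.val_last, Polynomial.coeff_C, if_neg n.succ_ne_zero] at h'
      exact hlast h'.symm
    obtain ⟨ρ, hρ⟩ := IsAlgClosed.exists_root P hdeg
    obtain ⟨Q, hQ⟩ := Polynomial.dvd_iff_isRoot.mpr hρ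
    have hP : P ≠ 0 := fun h => hlast (by rw [← hcoeff]; simp [h])
    have hQn : Q.natDegree < n + 1 := by
      have h1 : P.natDegree ≤ n + 1 := Polynomial.natDegree_sum_le_of_forall_le _ _ fun l _ =>
        (Polynomial.natDegree_C_mul_X_pow_le _ _).trans (Nat.lt_succ_iff.mp l.2)
      have h2 : Q ≠ 0 := fun h => hP (by rw [hQ, h, mul_zero])
      rw [hQ, Polynomial.natDegree_mul (Polynomial.X_sub_C_ne_zero ρ) h2, Polynomial.natDegree_X_sub_C] at h1
      omega
    refine ⟨fun x => Q.coeff x, ![1, -ρ], ⟨0, by simp⟩, fun l => ?_⟩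
    rw [← hcoeff l, hQ, sub_mul, Polynomial.coeff_sub, Polynomial.coeff_C_mul]
    have h1 : ∀ l : Fin (n + 2), (Fin.snoc (fun x : Fin (n + 1) => Q.coeff x) 0 : Fin (n + 2) → K) l =
        Q.coeff l := fun l => by
      refine Fin.lastCases ?_ (fun j => ?_) l
      · rw [Fin.snoc_last, Fin.val_last, Polynomial.coeff_eq_zero_of_natDegree_lt hQn]
      · simp
    have h2 : ∀ l : Fin (n + 2), (Fin.cons 0 (fun x : Fin (n + 1) => Q.coeff x) : Fin (n + 2) → K) l =
        (Polynomial.X * Q).coeff l := fun l => by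
      refine Fin.cases ?_ (fun j => ?_) l
      · simp
      · simp
    rw [mc, h1, h2]
    simp only [Matrix.cons_val_zero, Matrix.cons_val_one]
    ring

/-- the point of `P^n × P^1` with given chart coordinates -/
def mkTT {n : ℕ} {W : Scheme.{u}} {i : Fin (n + 1)} {j : Fin 2} (α : A.{u} n i →+* Γ(W, ⊤))
    (β : A.{u} 1 j →+* Γ(W, ⊤)) : W ⟶ TT.{u} n :=
  pullback.lift (W.toSpecΓ ≫ Spec.map (CommRingCat.ofHom α)) (W.toSpecΓ ≫ Spec.map (CommRingCat.ofHom β))
    (specULiftZIsTerminal.hom_ext _ _) ≫ segF.{u} i j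

theorem mkTT_augMor {n : ℕ} {W : Scheme.{u}} {i : Fin (n + 1)} {j : Fin 2} (α : A.{u} n i →+* Γ(W, ⊤))
    (β : A.{u} 1 j →+* Γ(W, ⊤)) : mkTT α β ≫ augMor n = mor (aug α β) := by
  rw [mkTT, Category.assoc, segF_augMor, comp_augChart, pullback.lift_fst, pullback.lift_snd, homOf_toSpecΓ,
    homOf_toSpecΓ]

theorem surjective_mulMor (n : ℕ) : Surjective (mulMor.{u} n) := by
  refine ⟨fun x => ?_⟩
  obtain ⟨k, y, rfl⟩ := (cov.{u} (n + 1)).openCover.exists_eq x
  let k : Fin (n + 2) := k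
  let y : Spec (CommRingCat.of (A.{u} (n + 1) k)) := y
  let S : Scheme.{u} := Spec (CommRingCat.of (A.{u} (n + 1) k))
  let K : Type u := AlgebraicClosure (S.residueField y)
  let W : Scheme.{u} := Spec (CommRingCat.of K)
  let g : W ⟶ S := Spec.map (CommRingCat.ofHom (algebraMap (S.residueField y) K)) ≫ S.fromSpecResidueField y
  let η : A.{u} (n + 1) k →+* Γ(W, ⊤) := homOf g
  let e := (Scheme.ΓSpecIso (CommRingCat.of K)).commRingCatIsoToRingEquiv
  let c : Fin (n + 2) → K := fun l => e (η (q k l))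
  have hck : c k = 1 := by simp [c, q_self]
  obtain ⟨a₀, b₀, ⟨i, hi⟩, ⟨j, hj⟩, hab⟩ := exists_factor c ⟨k, by simp [hck]⟩
  obtain ⟨α, hα⟩ := exists_ringHom.{u} i (fun l => e.symm ((a₀ i)⁻¹ * a₀ l)) (by simp [hi])
  obtain ⟨β, hβ⟩ := exists_ringHom.{u} j (fun l => e.symm ((b₀ j)⁻¹ * b₀ l)) (by simp [hj])
  -- the coordinates of the point
  let s : K := (a₀ i)⁻¹ * (b₀ j)⁻¹
  let sΓ : Γ(W, ⊤) := e.symm s
  have htup : ∀ z, tup (α ∘ q i) (β ∘ q j) z = sΓ * e.symm (tup a₀ b₀ z) := by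
    intro z
    have ea : α ∘ q i = fun l => e.symm (a₀ i)⁻¹ * (e.symm.toRingHom ∘ a₀) l :=
      funext fun l => by simp [hα]
    have eb : β ∘ q j = fun l => e.symm (b₀ j)⁻¹ * (e.symm.toRingHom ∘ b₀) l :=
      funext fun l => by simp [hβ]
    rw [ea, eb, tup_smul, ← map_tup]
    simp [sΓ, s]
  obtain ⟨γ, hγ⟩ := exists_ringHom.{u} (idx n (.inr k))
    (fun l => e.symm (tup a₀ b₀ ((idx n).symm l))) (by simp [tup, hab, hck])
  have hψ : mkTT α β ≫ augMor n = mor γ := by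
    rw [mkTT_augMor, mor_eq_iff]
    intro l
    obtain ⟨z, rfl⟩ := (idx n).surjective l
    rw [hγ, aug_q, aug_q, htup, htup, Equiv.symm_apply_apply]
    have h1 : tup a₀ b₀ (.inr k) = 1 := (hab k).trans hck
    rw [h1, map_one]
    erw [mul_one]
    exact mul_comm _ _
  have hfin : (mkTT α β) ≫ mulMor n = g ≫ qι k := by
    rw [mulMor, comp_projMor (m := n + 1) (augMor.{u} n) (fun k : Fin (n + 2) => idx n (.inr k)) augMor_cov
      (mkTT α β) (k := k) γ hψ, ← mor_homOf]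
    congr 1
    refine ringHom_ext fun l => ?_
    rw [RingHom.comp_apply, coordMap_q, hγ, Equiv.symm_apply_apply]
    change e.symm (mc a₀ b₀ l) = η (q k l)
    rw [hab]
    exact e.symm_apply_apply _
  obtain ⟨w⟩ : Nonempty W := (inferInstance : Nonempty (PrimeSpectrum K))
  refine ⟨(mkTT α β) w, ?_⟩
  have hw : g w = y := by
    rw [Scheme.Hom.comp_apply]
    exact S.fromSpecResidueField_apply y _
  change ((mkTT α β) ≫ mulMor n) w = qι k y
  rw [hfin, Scheme.Hom.comp_apply, hw]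

/-- `P^0_ℤ` is a point -/
theorem isIso_toSpec_zero : IsIso (CohB1.ProjSpace.toSpec 0 Z.{u}) := by
  have hsurj : Function.Surjective (qι.{u} (0 : Fin (0 + 1))) := fun x => by
    obtain ⟨k, y, hy⟩ := (cov.{u} 0).openCover.exists_eq x
    obtain rfl : (0 : Fin (0 + 1)) = k := Subsingleton.elim (α := Fin 1) _ _
    exact ⟨y, hy⟩
  have : Surjective (qι.{u} (0 : Fin (0 + 1))) := ⟨hsurj⟩
  have hiso : IsIso (qι.{u} (0 : Fin (0 + 1))) := isIso_iff_isOpenImmersion_and_surjective _ |>.mpr ⟨inferInstance, this⟩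
  let φ := castZ (A.{u} 0 0)
  have hbij : Function.Bijective φ := by
    obtain ⟨r, -⟩ := exists_ringHom.{u} (0 : Fin (0 + 1)) (R := Z.{u}) (fun _ => 1) rfl
    refine ⟨fun a b hab => ?_, fun z => ?_⟩
    · have h := congrArg r hab
      rwa [← RingHom.comp_apply, ← RingHom.comp_apply, ringHom_Z_ext (r.comp φ) (RingHom.id _)] at h
    · obtain ⟨p, rfl⟩ := qpoly_surjective.{u} (0 : Fin (0 + 1)) z
      refine ⟨MvPolynomial.eval (fun _ => 1) p, ?_⟩
      rw [← RingHom.comp_apply]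
      congr 1
      refine MvPolynomial.ringHom_ext (fun r => by simp [φ]) fun l => ?_
      obtain rfl : (0 : Fin (0 + 1)) = l := Subsingleton.elim (α := Fin 1) _ _
      simp [q_self]
  have : IsIso (CommRingCat.ofHom φ) := (ConcreteCategory.isIso_iff_bijective _).mpr hbij
  have : IsIso (qι.{u} (0 : Fin (0 + 1)) ≫ CohB1.ProjSpace.toSpec 0 Z.{u}) := by
    rw [specULiftZIsTerminal.hom_ext (qι.{u} (0 : Fin (0 + 1)) ≫ CohB1.ProjSpace.toSpec 0 Z.{u})
      (Spec.map (CommRingCat.ofHom φ))]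
    infer_instance
  exact IsIso.of_isIso_comp_left (qι.{u} (0 : Fin (0 + 1))) _

end

end Groth.Chow
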